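import Cfsg.Agent.Lib.PrimeGraph.Triple
import Cfsg.Agent.Lib.MinimalNormal

/-!
In a solvable group, among three primes dividing the order two are adjacent in the prime graph.
-/

set_option autoImplicit false

namespace Cfsg.Agent.Lib.PrimeGraph

universe u

/-- Solvable `G` with two primes: a normal subgroup separates them, in one order or the other. -/
theorem exists_normal_separating {q r : ℕ} (hq : q.Prime) (hr : r.Prime) (hqr : q ≠ r) :
    ∀ (n : ℕ) (G : Type u) [Group G] [Finite G], Nat.card G = n → Group.IsSolvable G →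
      q ∣ Nat.card G → r ∣ Nat.card G →
      ∃ M : Subgroup G, M.Normal ∧
        ((q ∣ Nat.card M ∧ r ∣ M.index) ∨ (r ∣ Nat.card M ∧ q ∣ M.index)) := by
  intro n
  induction n using Nat.strong_induction_on with
  | _ n ih =>
  intro G _ _ hn hs hqG hrG
  haveI : Nontrivial G := Finite.one_lt_card_iff_nontrivial.mp
    (lt_of_lt_of_le hq.one_lt (Nat.le_of_dvd Nat.card_pos hqG))
  obtain ⟨N, hN, hNne, -, hmin⟩ :=
    MinimalNormal.exists_minimal_normal_le (M := (⊤ : Subgroup G)) inferInstance top_ne_bot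
  obtain ⟨-, s, hs', hexp⟩ := MinimalNormal.elementaryAbelian N hNne hmin
  haveI := Fact.mk hs'
  obtain ⟨k, hk⟩ := IsPGroup.iff_card.mp
    (show IsPGroup s N from fun x => ⟨1, Subtype.ext (by simpa using hexp _ x.2)⟩)
  have hk0 : k ≠ 0 := by
    rintro rfl
    rw [pow_zero, Subgroup.card_eq_one] at hk
    exact hNne hk
  have hdvd : ∀ t : ℕ, t.Prime → t ∣ Nat.card G → t ≠ s → t ∣ N.index := fun t ht htG hts => by
    rw [← N.card_mul_index, hk] at htG
    exact (ht.dvd_mul.mp htG).resolve_left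
      fun h => hts ((Nat.prime_dvd_prime_iff_eq ht hs').mp (ht.dvd_of_dvd_pow h))
  by_cases h : (s = q ∧ r ∣ N.index) ∨ (s = r ∧ q ∣ N.index)
  · refine ⟨N, hN, ?_⟩
    rcases h with ⟨rfl, h⟩ | ⟨rfl, h⟩
    · exact Or.inl ⟨hk ▸ dvd_pow_self _ hk0, h⟩
    · exact Or.inr ⟨hk ▸ dvd_pow_self _ hk0, h⟩
  have hsq : s ≠ q := by
    rintro rfl
    exact h (Or.inl ⟨rfl, hdvd r hr hrG hqr.symm⟩)
  have hsr : s ≠ r := by
    rintro rfl
    exact h (Or.inr ⟨rfl, hdvd q hq hqG hqr⟩)
  have hlt : Nat.card (G ⧸ N) < n := by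
    have h1 := N.card_mul_index
    have h2 : 1 < Nat.card N := (N.one_lt_card_iff_ne_bot).mpr hNne
    have h3 : 0 < N.index := Nat.pos_of_ne_zero Subgroup.index_ne_zero_of_finite
    rw [← Subgroup.index_eq_card]
    rw [← hn, ← h1]
    exact lt_mul_left h3 h2
  obtain ⟨M, hM, hcase⟩ := ih _ hlt (G ⧸ N) rfl
    (Group.isSolvable_of_surjective (QuotientGroup.mk'_surjective N))
    (N.index_eq_card ▸ hdvd q hq hqG hsq.symm) (N.index_eq_card ▸ hdvd r hr hrG hsr.symm)
  refine ⟨M.comap (QuotientGroup.mk' N), hM.comap _, ?_⟩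
  rw [M.index_comap_of_surjective (QuotientGroup.mk'_surjective N)]
  have hd : Nat.card M ∣ Nat.card (M.comap (QuotientGroup.mk' N)) := by
    have := Subgroup.card_dvd_of_surjective
      ((QuotientGroup.mk' N).subgroupComap M)
      ((QuotientGroup.mk' N).subgroupComap_surjective_of_surjective M
        (QuotientGroup.mk'_surjective N))
    exact this
  rcases hcase with ⟨h1, h2⟩ | ⟨h1, h2⟩
  · exact Or.inl ⟨h1.trans hd, h2⟩
  · exact Or.inr ⟨h1.trans hd, h2⟩

/-- In a finite solvable group, among three distinct primes dividing the order two divide the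
order of one element. -/
theorem solvable_triple {p q r : ℕ} (hp : p.Prime) (hq : q.Prime) (hr : r.Prime)
    (hpq : p ≠ q) (hpr : p ≠ r) (hqr : q ≠ r) :
    ∀ (n : ℕ) (G : Type u) [Group G] [Finite G], Nat.card G = n → Group.IsSolvable G →
      p ∣ Nat.card G → q ∣ Nat.card G → r ∣ Nat.card G →
      (∃ g : G, orderOf g = p * q) ∨ (∃ g : G, orderOf g = p * r) ∨ (∃ g : G, orderOf g = q * r) := by
  intro n
  induction n using Nat.strong_induction_on with
  | _ n ih =>
  intro G _ _ hn hs hpG hqG hrG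
  haveI : Nontrivial G := Finite.one_lt_card_iff_nontrivial.mp
    (lt_of_lt_of_le hp.one_lt (Nat.le_of_dvd Nat.card_pos hpG))
  obtain ⟨N, hN, hNne, -, hmin⟩ :=
    MinimalNormal.exists_minimal_normal_le (M := (⊤ : Subgroup G)) inferInstance top_ne_bot
  obtain ⟨-, s, hs', hexp⟩ := MinimalNormal.elementaryAbelian N hNne hmin
  haveI := Fact.mk hs'
  obtain ⟨k, hk⟩ := IsPGroup.iff_card.mp
    (show IsPGroup s N from fun x => ⟨1, Subtype.ext (by simpa using hexp _ x.2)⟩)
  have hk0 : k ≠ 0 := by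
    rintro rfl
    rw [pow_zero, Subgroup.card_eq_one] at hk
    exact hNne hk
  haveI := Group.isSolvable_of_surjective (QuotientGroup.mk'_surjective N)
  by_cases h3 : p ∣ N.index ∧ q ∣ N.index ∧ r ∣ N.index
  · have hlt : Nat.card (G ⧸ N) < n := by
      have h2 : 1 < Nat.card N := (N.one_lt_card_iff_ne_bot).mpr hNne
      have h3 : 0 < N.index := Nat.pos_of_ne_zero Subgroup.index_ne_zero_of_finite
      rw [← Subgroup.index_eq_card, ← hn, ← N.card_mul_index]
      exact lt_mul_left h3 h2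
    have hlift : ∀ m : ℕ, (∃ g : G ⧸ N, orderOf g = m) → ∃ g : G, orderOf g = m := by
      rintro m ⟨g, hg⟩
      obtain ⟨x, rfl⟩ := QuotientGroup.mk'_surjective N g
      have hd : m ∣ orderOf x := hg ▸ orderOf_map_dvd (QuotientGroup.mk' N) x
      exact ⟨x ^ (orderOf x / m), orderOf_pow_orderOf_div (orderOf_pos x).ne' hd⟩
    rcases ih _ hlt (G ⧸ N) rfl inferInstance (N.index_eq_card ▸ h3.1) (N.index_eq_card ▸ h3.2.1)
        (N.index_eq_card ▸ h3.2.2) with h | h | h
    · exact Or.inl (hlift _ h)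
    · exact Or.inr (Or.inl (hlift _ h))
    · exact Or.inr (Or.inr (hlift _ h))
  -- one of the primes is `s` and the other two are seen in the quotient
  have hdvd : ∀ t : ℕ, t.Prime → t ∣ Nat.card G → t ≠ s → t ∣ N.index := fun t ht htG hts => by
    rw [← N.card_mul_index, hk] at htG
    exact (ht.dvd_mul.mp htG).resolve_left
      fun h => hts ((Nat.prime_dvd_prime_iff_eq ht hs').mp (ht.dvd_of_dvd_pow h))
  have hmain : ∀ a b c : ℕ, a = s → b.Prime → c.Prime → a ≠ b → a ≠ c → b ≠ c →
      b ∣ Nat.card G → c ∣ Nat.card G →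
      (∃ g : G, orderOf g = a * b) ∨ (∃ g : G, orderOf g = a * c) ∨ (∃ g : G, orderOf g = b * c) := by
    rintro a b c rfl hb hc hab hac hbc hbG hcG
    obtain ⟨M, hM, hcase⟩ := exists_normal_separating hb hc hbc _ (G ⧸ N) rfl inferInstance
      (N.index_eq_card ▸ hdvd b hb hbG hab.symm) (N.index_eq_card ▸ hdvd c hc hcG hac.symm)
    have hi : (M.comap (QuotientGroup.mk' N)).index = M.index :=
      M.index_comap_of_surjective (QuotientGroup.mk'_surjective N)
    have hr' : N.relIndex (M.comap (QuotientGroup.mk' N)) = Nat.card M := by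
      have h1 : N = (⊥ : Subgroup (G ⧸ N)).comap (QuotientGroup.mk' N) := by
        rw [MonoidHom.comap_bot, QuotientGroup.ker_mk']
      refine (congrArg (fun X => Subgroup.relIndex X (M.comap (QuotientGroup.mk' N))) h1).trans ?_
      rw [Subgroup.relIndex_comap, Subgroup.map_comap_eq_self_of_surjective
        (QuotientGroup.mk'_surjective N), Subgroup.relIndex_bot_left]
    haveI := hM.comap (QuotientGroup.mk' N)
    have hle : N ≤ M.comap (QuotientGroup.mk' N) := by
      intro x hx
      rw [Subgroup.mem_comap, (QuotientGroup.eq_one_iff x).mpr hx |> fun h => (h : (QuotientGroup.mk' N) x = 1)]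
      exact one_mem M
    rcases hcase with ⟨h1, h2⟩ | ⟨h1, h2⟩
    · exact triple N _ hle hs' hb hc hab hac hbc (hk ▸ dvd_pow_self _ hk0) (hr' ▸ h1) (hi ▸ h2)
    · rcases triple N _ hle hs' hc hb hac hab hbc.symm (hk ▸ dvd_pow_self _ hk0) (hr' ▸ h1)
        (hi ▸ h2) with h | h | h
      · exact Or.inr (Or.inl h)
      · exact Or.inl h
      · exact Or.inr (Or.inr (by rwa [mul_comm]))
  have hsome : p = s ∨ q = s ∨ r = s := by
    by_contra hno
    simp only [not_or] at hno
    exact h3 ⟨hdvd p hp hpG hno.1, hdvd q hq hqG hno.2.1, hdvd r hr hrG hno.2.2⟩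
  rcases hsome with h | h | h
  · exact hmain p q r h hq hr hpq hpr hqr hqG hrG
  · rcases hmain q p r h hp hr hpq.symm hqr hpr hpG hrG with h | h | h
    · exact Or.inl (by rwa [mul_comm])
    · exact Or.inr (Or.inr h)
    · exact Or.inr (Or.inl h)
  · rcases hmain r p q h hp hq hpr.symm hqr.symm hpq hpG hqG with h | h | h
    · exact Or.inr (Or.inl (by rwa [mul_comm]))
    · exact Or.inr (Or.inr (by rwa [mul_comm]))
    · exact Or.inl h

end Cfsg.Agent.Lib.PrimeGraph
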