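import Cfsg.Agent.Lib.PrimeGraph.FpfExtension

/-!
Extensions `V ⋊ S` by an elementary abelian `p`-group have the prime graph of `S` when every prime `r`
whose elements fix a non-trivial vector is already joined to `p` in `S`.
-/

set_option autoImplicit false

namespace Cfsg.Agent.Lib.PrimeGraph

/-- If `π : H → S` is surjective with kernel a `p`-group, and an element of prime order `r ≠ p` of `S`
has a preimage centralising a non-trivial element of the kernel only when `S` has an element of order
`r * p`, then `H` and `S` have the same prime graph. -/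
theorem samePrimeGraph_of_joined {H S : Type*} [Group H] [Group S] [Finite H] [Finite S] (p : ℕ) (hp : p.Prime)
    (π : H →* S) (hπ : Function.Surjective π) (hpS : p ∣ Nat.card S) (hker : IsPGroup p π.ker)
    (hfix : ∀ h w : H, w ∈ π.ker → w ≠ 1 → Commute h w → ∀ r : ℕ, r.Prime → r ≠ p →
      orderOf (π h) = r → ∃ s : S, orderOf s = r * p) :
    SamePrimeGraph H S := by
  haveI := Fact.mk hp
  obtain ⟨n, hn⟩ := hker.exists_card_eq
  have hkp : ∀ (a : H) (r : ℕ), r.Prime → a ∈ π.ker → orderOf a = r → r = p := by
    intro a r hr ha hord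
    have hd := orderOf_dvd_natCard (⟨a, ha⟩ : π.ker)
    rw [Subgroup.orderOf_mk, hord, hn] at hd
    exact (Nat.prime_dvd_prime_iff_eq hr hp).1 (hr.dvd_of_dvd_pow hd)
  refine ⟨fun r hr => ?_, fun r s hr hs hrs => ?_⟩
  · have h := Subgroup.index_mul_card π.ker
    rw [Subgroup.index_ker, MonoidHom.range_eq_top.2 hπ, Subgroup.card_top] at h
    constructor
    · intro hd
      rw [← h] at hd
      rcases hr.dvd_mul.1 hd with hd | hd
      · exact hd
      · rw [hn] at hd
        rw [(Nat.prime_dvd_prime_iff_eq hr hp).1 (hr.dvd_of_dvd_pow hd)]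
        exact hpS
    · intro hd
      rw [← h]; exact Dvd.dvd.mul_right hd _
  · constructor
    · rintro ⟨g, hg⟩
      have key : ∀ a b : ℕ, a.Prime → b.Prime → a ≠ b → orderOf g = a * b → π g ^ a = 1 →
          ∃ s : S, orderOf s = a * b := by
        intro a b ha hb hab hgab hpow
        have hw : g ^ a ∈ π.ker := by rw [MonoidHom.mem_ker, map_pow, hpow]
        have hord : orderOf (g ^ a) = b := by
          rw [orderOf_pow_of_dvd ha.ne_zero (hgab ▸ dvd_mul_right a b), hgab, Nat.mul_div_cancel_left _ ha.pos]
        obtain rfl := hkp _ b hb hw hord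
        refine hfix g (g ^ a) hw (fun h => by rw [h, orderOf_one] at hord; exact hb.one_lt.ne hord)
          (Commute.self_pow g a) a ha hab ?_
        rcases (Nat.dvd_prime ha).1 (orderOf_dvd_iff_pow_eq_one.2 hpow) with h | h
        · exfalso
          have hga : g ∈ π.ker := MonoidHom.mem_ker.2 (orderOf_eq_one_iff.1 h)
          have hd := orderOf_dvd_natCard (⟨g, hga⟩ : π.ker)
          rw [Subgroup.orderOf_mk, hgab, hn] at hd
          exact hab ((Nat.prime_dvd_prime_iff_eq ha hp).1
            (ha.dvd_of_dvd_pow ((dvd_mul_right a b).trans hd)))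
        · exact h
      have hd : orderOf (π g) ∣ r * s := hg ▸ orderOf_map_dvd π g
      by_cases h1 : orderOf (π g) = r * s
      · exact ⟨π g, h1⟩
      rcases (Nat.dvd_mul.1 hd) with ⟨c, d, hc, hdd, hcd⟩
      rcases (Nat.dvd_prime hr).1 hc with rfl | rfl <;> rcases (Nat.dvd_prime hs).1 hdd with rfl | rfl
      · exact key r s hr hs hrs hg (orderOf_dvd_iff_pow_eq_one.1 (by rw [← hcd]; simp))
      · obtain ⟨x, hx⟩ := key _ r hs hr hrs.symm (hg.trans (mul_comm _ _))
          (orderOf_dvd_iff_pow_eq_one.1 (by rw [← hcd]; simp))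
        exact ⟨x, hx.trans (mul_comm _ _)⟩
      · exact key _ s hr hs hrs hg (orderOf_dvd_iff_pow_eq_one.1 (by rw [← hcd]; simp))
      · exact absurd hcd.symm h1
    · rintro ⟨g, hg⟩
      obtain ⟨h, rfl⟩ := hπ g
      exact ⟨h ^ (orderOf h / (r * s)),
        orderOf_pow_orderOf_div (orderOf_pos h).ne' (hg ▸ orderOf_map_dvd π h)⟩

/-- Unbounded groups with the prime graph of a group acting on an elementary abelian `p`-group in
which only elements of prime order already joined to `p` fix non-trivial vectors. -/
theorem exists_large_module {V S : Type*} [AddCommGroup V] [Finite V] [Nontrivial V] [Group S] [Finite S]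
    (act : S →* AddMonoid.End V) (p : ℕ) [Fact p.Prime] (hV : ∀ v : V, p • v = 0) (hpS : p ∣ Nat.card S)
    (hfix : ∀ (g : S) (v : V), v ≠ 0 → act g v = v → ∀ r : ℕ, r.Prime → r ≠ p → orderOf g = r →
      ∃ s : S, orderOf s = r * p)
    (N : ℕ) :
    ∃ (H : Type) (_ : Group H) (_ : Finite H), N < Nat.card H ∧ SamePrimeGraph S H := by
  classical
  let A := Fin N → V
  have hinv : ∀ (g : S) (v : V), act g⁻¹ (act g v) = v := fun g v => by
    show (act g⁻¹ * act g) v = v
    rw [← map_mul, inv_mul_cancel, map_one]; rfl
  let actA : S → AddAut A := fun g =>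
    { toFun := fun v i => act g (v i)
      invFun := fun v i => act g⁻¹ (v i)
      left_inv := fun v => funext fun i => hinv g (v i)
      right_inv := fun v => funext fun i => by
        have := hinv g⁻¹ (v i)
        rwa [inv_inv] at this
      map_add' := fun v w => funext fun i => map_add (act g) _ _ }
  let φ : S →* MulAut (Multiplicative A) :=
    { toFun := fun g => AddEquiv.toMultiplicative (actA g)
      map_one' := by
        refine MulEquiv.ext fun v => Multiplicative.toAdd.injective (funext fun i => ?_)
        show act 1 (v.toAdd i) = v.toAdd i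
        rw [map_one]; rfl
      map_mul' := fun g h => by
        refine MulEquiv.ext fun v => Multiplicative.toAdd.injective (funext fun i => ?_)
        show act (g * h) (v.toAdd i) = act g (act h (v.toAdd i))
        rw [map_mul]; rfl }
  let H := Multiplicative A ⋊[φ] S
  haveI : Finite H := Finite.of_equiv _ SemidirectProduct.equivProd.symm
  have hsame : SamePrimeGraph H S := by
    refine samePrimeGraph_of_joined p Fact.out SemidirectProduct.rightHom
      SemidirectProduct.rightHom_surjective hpS ?_ ?_
    · intro w
      refine ⟨1, Subtype.ext ?_⟩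
      have hw : (w : H) ∈ (SemidirectProduct.inl : Multiplicative A →* H).range := by
        rw [SemidirectProduct.range_inl_eq_ker_rightHom]; exact w.2
      obtain ⟨a, ha⟩ := hw
      rw [Subgroup.coe_pow, ← ha, pow_one, ← map_pow]
      have : a ^ p = 1 := Multiplicative.toAdd.injective (funext fun i => hV (a.toAdd i))
      rw [this, map_one]; rfl
    · intro h w hw hw1 hc r hr hrp hord
      have hw' : w ∈ (SemidirectProduct.inl : Multiplicative A →* H).range := by
        rw [SemidirectProduct.range_inl_eq_ker_rightHom]; exact hw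
      obtain ⟨a, rfl⟩ := hw'
      have hl := congrArg SemidirectProduct.left hc.eq
      change h.left * φ h.right a = a * φ 1 h.left at hl
      rw [map_one, MulAut.one_apply] at hl
      rw [mul_comm a, mul_left_cancel_iff] at hl
      obtain ⟨i, hi⟩ : ∃ i, a.toAdd i ≠ 0 := by
        by_contra hn
        push Not at hn
        apply hw1
        have : a = 1 := Multiplicative.toAdd.injective (funext hn)
        rw [this, map_one]
      exact hfix h.right (a.toAdd i) hi (congrFun (congrArg Multiplicative.toAdd hl) i) r hr hrp hord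
  obtain ⟨X, iX, fX, ⟨e⟩⟩ := exists_small H
  refine ⟨X, iX, Finite.of_fintype X, ?_, ((SamePrimeGraph.of_mulEquiv e).trans hsame).symm⟩
  rw [Nat.card_congr e.toEquiv, SemidirectProduct.card]
  calc N < 2 ^ N := Nat.lt_two_pow_self
    _ ≤ Nat.card A := by
        rw [Nat.card_pi, Finset.prod_const, Finset.card_univ, Fintype.card_fin]
        exact Nat.pow_le_pow_left Finite.one_lt_card _
    _ = Nat.card (Multiplicative A) := rfl
    _ ≤ _ := Nat.le_mul_of_pos_right _ Nat.card_pos

end Cfsg.Agent.Lib.PrimeGraph
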