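import Mathlib

/-!
Extensions `V ⋊ S` of a finite linear group `S` in characteristic `p` in which only `p`-elements
fix a non-zero vector have the prime graph of `S`, and can be made as large as one likes.
-/

set_option autoImplicit false

namespace Cfsg.Agent.Lib.PrimeGraph

/-- `G` and `H` have the same prime graph. -/
def SamePrimeGraph (G H : Type*) [Group G] [Group H] : Prop :=
  (∀ p : ℕ, p.Prime → (p ∣ Nat.card G ↔ p ∣ Nat.card H)) ∧
    (∀ p q : ℕ, p.Prime → q.Prime → p ≠ q →
      ((∃ g : G, orderOf g = p * q) ↔ (∃ g : H, orderOf g = p * q)))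

theorem SamePrimeGraph.trans {G H K : Type*} [Group G] [Group H] [Group K] (h1 : SamePrimeGraph G H)
    (h2 : SamePrimeGraph H K) : SamePrimeGraph G K :=
  ⟨fun p hp => (h1.1 p hp).trans (h2.1 p hp),
    fun p q hp hq hpq => (h1.2 p q hp hq hpq).trans (h2.2 p q hp hq hpq)⟩

theorem SamePrimeGraph.symm {G H : Type*} [Group G] [Group H] (h : SamePrimeGraph G H) :
    SamePrimeGraph H G :=
  ⟨fun p hp => (h.1 p hp).symm, fun p q hp hq hpq => (h.2 p q hp hq hpq).symm⟩

theorem SamePrimeGraph.of_mulEquiv {G H : Type*} [Group G] [Group H] (e : G ≃* H) : SamePrimeGraph G H :=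
  ⟨fun p _ => by rw [Nat.card_congr e.toEquiv],
    fun p q _ _ _ => ⟨fun ⟨g, hg⟩ => ⟨e g, by rw [MulEquiv.orderOf_eq, hg]⟩,
      fun ⟨g, hg⟩ => ⟨e.symm g, by rw [MulEquiv.orderOf_eq, hg]⟩⟩⟩

/-- If `π : H → S` is surjective with kernel a `p`-group and only `p`-elements of `S` have preimages
centralising a non-trivial element of the kernel, then `H` and `S` have the same prime graph. -/
theorem samePrimeGraph_of_fpf {H S : Type*} [Group H] [Group S] [Finite H] [Finite S] (p : ℕ) (hp : p.Prime)
    (π : H →* S) (hπ : Function.Surjective π) (hpS : p ∣ Nat.card S) (hker : IsPGroup p π.ker)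
    (hfpf : ∀ h w : H, w ∈ π.ker → w ≠ 1 → Commute h w → ∃ k, π h ^ (p ^ k) = 1) :
    SamePrimeGraph H S := by
  haveI := Fact.mk hp
  refine ⟨fun r hr => ?_, fun r s hr hs hrs => ?_⟩
  · have h := Subgroup.index_mul_card π.ker
    rw [Subgroup.index_ker, MonoidHom.range_eq_top.2 hπ, Subgroup.card_top] at h
    constructor
    · intro hd
      rw [← h] at hd
      rcases hr.dvd_mul.1 hd with hd | hd
      · exact hd
      · obtain ⟨n, hn⟩ := hker.exists_card_eq
        rw [hn] at hd
        rw [(Nat.prime_dvd_prime_iff_eq hr hp).1 (hr.dvd_of_dvd_pow hd)]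
        exact hpS
    · intro hd
      rw [← h]; exact Dvd.dvd.mul_right hd _
  · constructor
    · rintro ⟨g, hg⟩
      have hd : orderOf (π g) ∣ r * s := hg ▸ orderOf_map_dvd π g
      by_cases h1 : orderOf (π g) = r * s
      · exact ⟨π g, h1⟩
      exfalso
      -- the order of the image is `1`, `r` or `s`
      have key : ∀ a b : ℕ, a.Prime → b.Prime → a ≠ b → orderOf g = a * b → π g ^ a = 1 → False := by
        intro a b ha hb hab hgab hpow
        have hw : g ^ a ∈ π.ker := by rw [MonoidHom.mem_ker, map_pow, hpow]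
        have hord : orderOf (g ^ a) = b := by
          rw [orderOf_pow_of_dvd ha.ne_zero (hgab ▸ dvd_mul_right a b), hgab, Nat.mul_div_cancel_left _ ha.pos]
        have hbp : b = p := by
          have hd := orderOf_dvd_natCard (⟨g ^ a, hw⟩ : π.ker)
          obtain ⟨n, hn⟩ := hker.exists_card_eq
          rw [Subgroup.orderOf_mk, hord, hn] at hd
          exact (Nat.prime_dvd_prime_iff_eq hb hp).1 (hb.dvd_of_dvd_pow hd)
        obtain ⟨k, hk⟩ := hfpf g (g ^ a) hw
          (fun h => by rw [h, orderOf_one] at hord; exact hb.one_lt.ne hord) (Commute.self_pow g a)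
        have hg1 : π g = 1 := by
          have hcop : Nat.Coprime a (p ^ k) := ((Nat.coprime_primes ha hp).2 (hbp ▸ hab)).pow_right k
          have := pow_gcd_eq_one.2 ⟨hpow, hk⟩
          rwa [hcop, pow_one] at this
        have hd := orderOf_dvd_natCard (⟨g, MonoidHom.mem_ker.2 hg1⟩ : π.ker)
        obtain ⟨n, hn⟩ := hker.exists_card_eq
        rw [Subgroup.orderOf_mk, hgab, hn] at hd
        exact hab (((Nat.prime_dvd_prime_iff_eq ha hp).1 (ha.dvd_of_dvd_pow ((dvd_mul_right a b).trans hd))).trans
          hbp.symm)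
      rcases (Nat.dvd_mul.1 hd) with ⟨c, d, hc, hdd, hcd⟩
      rcases (Nat.dvd_prime hr).1 hc with rfl | rfl <;> rcases (Nat.dvd_prime hs).1 hdd with rfl | rfl
      · exact key r s hr hs hrs hg (orderOf_dvd_iff_pow_eq_one.1 (by rw [← hcd]; simp))
      · exact key _ r hs hr hrs.symm (hg.trans (mul_comm _ _)) (orderOf_dvd_iff_pow_eq_one.1 (by rw [← hcd]; simp))
      · exact key _ s hr hs hrs hg (orderOf_dvd_iff_pow_eq_one.1 (by rw [← hcd]; simp))
      · exact h1 hcd.symm
    · rintro ⟨g, hg⟩
      obtain ⟨h, rfl⟩ := hπ g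
      exact ⟨h ^ (orderOf h / (r * s)),
        orderOf_pow_orderOf_div (orderOf_pos h).ne' (hg ▸ orderOf_map_dvd π h)⟩

/-- Transport a finite group to `Type`. -/
theorem exists_small (H : Type*) [Group H] [Finite H] :
    ∃ (X : Type) (_ : Group X) (_ : Fintype X), Nonempty (X ≃* H) := by
  obtain ⟨n, ⟨e⟩⟩ := Finite.exists_equiv_fin H
  letI : Group (Fin n) := e.symm.group
  exact ⟨Fin n, inferInstance, inferInstance, ⟨e.symm.mulEquiv⟩⟩

/-- Unbounded groups with the prime graph of a linear group in which only `p`-elements fix a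
non-zero vector. -/
theorem exists_large {ι F S : Type*} [Fintype ι] [DecidableEq ι] [Nonempty ι] [Field F] [Fintype F]
    [Group S] [Finite S] (ρ : S →* GL ι F) (p : ℕ) [Fact p.Prime] [CharP F p] (hpS : p ∣ Nat.card S)
    (hfix : ∀ g : S, ∀ v : ι → F, v ≠ 0 → (ρ g : Matrix ι ι F).mulVec v = v → ∃ k, g ^ (p ^ k) = 1)
    (N : ℕ) :
    ∃ (H : Type) (_ : Group H) (_ : Fintype H), N < Fintype.card H ∧ SamePrimeGraph S H := by
  classical
  let A := Fin N → ι → F
  let act : S → AddAut A := fun g =>
    { toFun := fun v i => (ρ g : Matrix ι ι F).mulVec (v i)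
      invFun := fun v i => (ρ g⁻¹ : Matrix ι ι F).mulVec (v i)
      left_inv := fun v => by
        funext i
        show (ρ g⁻¹ : Matrix ι ι F).mulVec ((ρ g : Matrix ι ι F).mulVec (v i)) = v i
        rw [Matrix.mulVec_mulVec, ← Units.val_mul, ← map_mul, inv_mul_cancel, map_one, Units.val_one,
          Matrix.one_mulVec]
      right_inv := fun v => by
        funext i
        show (ρ g : Matrix ι ι F).mulVec ((ρ g⁻¹ : Matrix ι ι F).mulVec (v i)) = v i
        rw [Matrix.mulVec_mulVec, ← Units.val_mul, ← map_mul, mul_inv_cancel, map_one, Units.val_one,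
          Matrix.one_mulVec]
      map_add' := fun v w => by funext i; exact Matrix.mulVec_add _ _ _ }
  let φ : S →* MulAut (Multiplicative A) :=
    { toFun := fun g => AddEquiv.toMultiplicative (act g)
      map_one' := by
        refine MulEquiv.ext fun v => Multiplicative.toAdd.injective (funext fun i => ?_)
        show (ρ 1 : Matrix ι ι F).mulVec (v.toAdd i) = v.toAdd i
        rw [map_one, Units.val_one, Matrix.one_mulVec]
      map_mul' := fun g h => by
        refine MulEquiv.ext fun v => Multiplicative.toAdd.injective (funext fun i => ?_)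
        show (ρ (g * h) : Matrix ι ι F).mulVec (v.toAdd i) =
          (ρ g : Matrix ι ι F).mulVec ((ρ h : Matrix ι ι F).mulVec (v.toAdd i))
        rw [map_mul, Units.val_mul, Matrix.mulVec_mulVec] }
  let H := Multiplicative A ⋊[φ] S
  haveI : Finite H := Finite.of_equiv _ SemidirectProduct.equivProd.symm
  have hsame : SamePrimeGraph H S := by
    refine samePrimeGraph_of_fpf p Fact.out SemidirectProduct.rightHom
      SemidirectProduct.rightHom_surjective hpS ?_ ?_
    · intro w
      refine ⟨1, Subtype.ext ?_⟩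
      have hw : (w : H) ∈ (SemidirectProduct.inl : Multiplicative A →* H).range := by
        rw [SemidirectProduct.range_inl_eq_ker_rightHom]; exact w.2
      obtain ⟨a, ha⟩ := hw
      rw [Subgroup.coe_pow, ← ha, pow_one, ← map_pow]
      have : a ^ p = 1 := by
        apply Multiplicative.toAdd.injective
        funext i j
        show (p • a.toAdd) i j = 0
        rw [Pi.smul_apply, Pi.smul_apply, nsmul_eq_mul, CharP.cast_eq_zero, zero_mul]
      rw [this, map_one]; rfl
    · intro h w hw hw1 hc
      have hw' : w ∈ (SemidirectProduct.inl : Multiplicative A →* H).range := by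
        rw [SemidirectProduct.range_inl_eq_ker_rightHom]; exact hw
      obtain ⟨a, rfl⟩ := hw'
      have hl := congrArg SemidirectProduct.left hc.eq
      change h.left * φ h.right a = a * φ 1 h.left at hl
      rw [map_one, MulAut.one_apply] at hl
      rw [mul_comm a, mul_left_cancel_iff] at hl
      obtain ⟨i, hi⟩ : ∃ i, a.toAdd i ≠ 0 := by
        by_contra hn
        push Not at hn
        apply hw1
        have : a = 1 := Multiplicative.toAdd.injective (funext hn)
        rw [this, map_one]
      exact hfix h.right (a.toAdd i) hi (congrFun (congrArg Multiplicative.toAdd hl) i)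
  obtain ⟨X, iX, fX, ⟨e⟩⟩ := exists_small H
  refine ⟨X, iX, fX, ?_, ((SamePrimeGraph.of_mulEquiv e).trans hsame).symm⟩
  rw [← Nat.card_eq_fintype_card, Nat.card_congr e.toEquiv, SemidirectProduct.card]
  calc N < 2 ^ N := Nat.lt_two_pow_self
    _ ≤ Nat.card A := by
        rw [Nat.card_pi, Finset.prod_const, Finset.card_univ, Fintype.card_fin]
        exact Nat.pow_le_pow_left Finite.one_lt_card _
    _ = Nat.card (Multiplicative A) := rfl
    _ ≤ _ := Nat.le_mul_of_pos_right _ Nat.card_pos

end Cfsg.Agent.Lib.PrimeGraph
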