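import Cfsg.Agent.Lib.PrimeGraph.FpfExtension

/-!
The prime graph of `V^N ⋊ S` for an elementary abelian `p`-group `V`: the edges of `S` and the edges
joining `p` to the primes whose elements fix non-zero vectors.
-/

set_option autoImplicit false

namespace Cfsg.Agent.Lib.PrimeGraph

/-- Large groups `V^N ⋊ S` with their prime graphs. -/
theorem exists_large_semidirect {V S : Type*} [AddCommGroup V] [Finite V] [Nontrivial V] [Group S] [Finite S]
    (act : S →* AddMonoid.End V) (p : ℕ) (hp : p.Prime) (hV : ∀ v : V, p • v = 0) (hpS : p ∣ Nat.card S)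
    (N : ℕ) :
    ∃ (H : Type) (_ : Group H) (_ : Finite H), N < Nat.card H ∧
      (∀ r : ℕ, r.Prime → (r ∣ Nat.card H ↔ r ∣ Nat.card S)) ∧
      (∀ r s : ℕ, r.Prime → s.Prime → r ≠ s → ((∃ g : H, orderOf g = r * s) ↔
        (∃ g : S, orderOf g = r * s) ∨
          ((r = p ∧ ∃ (g : S) (v : V), v ≠ 0 ∧ act g v = v ∧ orderOf g = s) ∨
           (s = p ∧ ∃ (g : S) (v : V), v ≠ 0 ∧ act g v = v ∧ orderOf g = r)))) := by
  classical
  have := Fact.mk hp
  let A := Fin (N + 1) → V
  have hinv : ∀ (g : S) (v : V), act g⁻¹ (act g v) = v := fun g v => by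
    show (act g⁻¹ * act g) v = v
    rw [← map_mul, inv_mul_cancel, map_one]; rfl
  let actA : S → AddAut A := fun g =>
    { toFun := fun v i => act g (v i)
      invFun := fun v i => act g⁻¹ (v i)
      left_inv := fun v => funext fun i => hinv g (v i)
      right_inv := fun v => funext fun i => by
        have := hinv g⁻¹ (v i)
        rwa [inv_inv] at this
      map_add' := fun v w => funext fun i => map_add (act g) _ _ }
  let φ : S →* MulAut (Multiplicative A) :=
    { toFun := fun g => AddEquiv.toMultiplicative (actA g)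
      map_one' := by
        refine MulEquiv.ext fun v => Multiplicative.toAdd.injective (funext fun i => ?_)
        show act 1 (v.toAdd i) = v.toAdd i
        rw [map_one]; rfl
      map_mul' := fun g h => by
        refine MulEquiv.ext fun v => Multiplicative.toAdd.injective (funext fun i => ?_)
        show act (g * h) (v.toAdd i) = act g (act h (v.toAdd i))
        rw [map_mul]; rfl }
  let H := Multiplicative A ⋊[φ] S
  have : Finite H := Finite.of_equiv _ SemidirectProduct.equivProd.symm
  have hcard : Nat.card H = Nat.card (Multiplicative A) * Nat.card S := SemidirectProduct.card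
  have hAp : ∀ a : Multiplicative A, a ^ p = 1 := fun a =>
    Multiplicative.toAdd.injective (funext fun i => hV (a.toAdd i))
  have hdiv : ∀ r : ℕ, r.Prime → (r ∣ Nat.card H ↔ r ∣ Nat.card S) := by
    intro r hr
    rw [hcard]
    refine ⟨fun h => ?_, fun h => h.mul_left _⟩
    rcases hr.dvd_mul.1 h with h | h
    · have := Fact.mk hr
      obtain ⟨a, ha⟩ := exists_prime_orderOf_dvd_card' r h
      have hd := orderOf_dvd_of_pow_eq_one (hAp a)
      rw [ha, Nat.prime_dvd_prime_iff_eq hr hp] at hd
      exact hd ▸ hpS
    · exact h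
  obtain ⟨X, iX, fX, ⟨e⟩⟩ := exists_small H
  have hXc : Nat.card X = Nat.card H := Nat.card_congr e.toEquiv
  refine ⟨X, iX, Finite.of_fintype X, ?_, fun r hr => by rw [hXc]; exact hdiv r hr, fun r s hr hs hrs => ?_⟩
  · rw [hXc, hcard]
    calc N < 2 ^ (N + 1) := (Nat.lt_succ_self N).trans Nat.lt_two_pow_self
      _ ≤ Nat.card A := by
          rw [Nat.card_pi, Finset.prod_const, Finset.card_univ, Fintype.card_fin]
          exact Nat.pow_le_pow_left Finite.one_lt_card _
      _ = Nat.card (Multiplicative A) := rfl
      _ ≤ _ := Nat.le_mul_of_pos_right _ Nat.card_pos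
  have hX : (∃ g : X, orderOf g = r * s) ↔ ∃ g : H, orderOf g = r * s := by
    constructor
    · rintro ⟨g, hg⟩
      exact ⟨e g, by rw [MulEquiv.orderOf_eq e]; exact hg⟩
    · rintro ⟨g, hg⟩
      exact ⟨e.symm g, by rw [MulEquiv.orderOf_eq e.symm]; exact hg⟩
  rw [hX]
  constructor
  · rintro ⟨g, hg⟩
    by_cases h1 : orderOf g.right = r * s
    · exact Or.inl ⟨g.right, h1⟩
    refine Or.inr ?_
    have key : ∀ a b : ℕ, a.Prime → b.Prime → a ≠ b → orderOf g = a * b → g.right ^ a = 1 →
        b = p ∧ ∃ (x : S) (v : V), v ≠ 0 ∧ act x v = v ∧ orderOf x = a := by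
      intro a b ha hb hab hgab hpow
      have hw : (g ^ a).right = 1 := by
        rw [show (g ^ a).right = g.right ^ a from map_pow SemidirectProduct.rightHom g a, hpow]
      have hinl : g ^ a = SemidirectProduct.inl (g ^ a).left :=
        SemidirectProduct.ext (by simp) (by rw [SemidirectProduct.right_inl, hw])
      have hord : orderOf (g ^ a) = b := by
        rw [orderOf_pow_of_dvd ha.ne_zero (hgab ▸ dvd_mul_right a b), hgab, Nat.mul_div_cancel_left _ ha.pos]
      have hbp : b = p := by
        have hd : orderOf (g ^ a) ∣ p := orderOf_dvd_of_pow_eq_one (by rw [hinl, ← map_pow, hAp, map_one])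
        rw [hord] at hd
        exact (Nat.prime_dvd_prime_iff_eq hb hp).1 hd
      obtain ⟨i, hi⟩ : ∃ i, (g ^ a).left.toAdd i ≠ 0 := by
        by_contra hn
        push Not at hn
        have h0 : (g ^ a).left = 1 := Multiplicative.toAdd.injective (funext hn)
        rw [hinl, h0, map_one, orderOf_one] at hord
        exact hb.one_lt.ne hord
      refine ⟨hbp, g.right, (g ^ a).left.toAdd i, hi, ?_, ?_⟩
      · have hl := congrArg SemidirectProduct.left (Commute.self_pow g a).eq
        rw [SemidirectProduct.mul_left, SemidirectProduct.mul_left, hw, map_one, MulAut.one_apply,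
          mul_comm (g ^ a).left, mul_left_cancel_iff] at hl
        exact congrFun (congrArg Multiplicative.toAdd hl) i
      · rcases (Nat.dvd_prime ha).1 (orderOf_dvd_of_pow_eq_one hpow) with h | h
        · exfalso
          have hr1 : g.right = 1 := orderOf_eq_one_iff.1 h
          have hg1 : g = SemidirectProduct.inl g.left :=
            SemidirectProduct.ext (by simp) (by rw [SemidirectProduct.right_inl, hr1])
          have hd : orderOf g ∣ p := orderOf_dvd_of_pow_eq_one (by rw [hg1, ← map_pow, hAp, map_one])
          rw [hgab] at hd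
          exact hab ((((Nat.prime_dvd_prime_iff_eq ha hp).1 ((dvd_mul_right a b).trans hd))).trans
            (((Nat.prime_dvd_prime_iff_eq hb hp).1 ((dvd_mul_left b a).trans hd))).symm)
        · exact h
    have hd : orderOf g.right ∣ r * s := hg ▸ orderOf_map_dvd SemidirectProduct.rightHom g
    rcases (Nat.dvd_mul.1 hd) with ⟨c, d, hc, hdd, hcd⟩
    rcases (Nat.dvd_prime hr).1 hc with rfl | rfl <;> rcases (Nat.dvd_prime hs).1 hdd with rfl | rfl
    · exact Or.inr (key r s hr hs hrs hg (orderOf_dvd_iff_pow_eq_one.1 (by rw [← hcd]; simp)))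
    · exact Or.inl (key _ r hs hr hrs.symm (hg.trans (mul_comm _ _))
        (orderOf_dvd_iff_pow_eq_one.1 (by rw [← hcd]; simp)))
    · exact Or.inr (key _ s hr hs hrs hg (orderOf_dvd_iff_pow_eq_one.1 (by rw [← hcd]; simp)))
    · exact absurd hcd.symm h1
  · rintro (⟨g, hg⟩ | h)
    · exact ⟨SemidirectProduct.inr g, by rw [orderOf_injective _ SemidirectProduct.inr_injective, hg]⟩
    have key : ∀ a : ℕ, a.Prime → a ≠ p → (∃ (g : S) (v : V), v ≠ 0 ∧ act g v = v ∧ orderOf g = a) →
        ∃ x : H, orderOf x = p * a := by
      rintro a ha hap ⟨g, v, hv, hfix, hga⟩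
      let w : Multiplicative A := Multiplicative.ofAdd fun _ => v
      have hw : orderOf (SemidirectProduct.inl w : H) = p := by
        rw [orderOf_injective _ SemidirectProduct.inl_injective]
        exact orderOf_eq_prime (hAp w) fun h => hv (congrFun (congrArg Multiplicative.toAdd h) 0)
      have hg' : orderOf (SemidirectProduct.inr g : H) = a := by
        rw [orderOf_injective _ SemidirectProduct.inr_injective, hga]
      have hcomm : Commute (SemidirectProduct.inl w : H) (SemidirectProduct.inr g) := by
        refine SemidirectProduct.ext ?_ (by simp)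
        simp only [SemidirectProduct.mul_left, SemidirectProduct.left_inl, SemidirectProduct.left_inr,
          SemidirectProduct.right_inl, SemidirectProduct.right_inr, map_one, MulAut.one_apply, one_mul, mul_one]
        exact (Multiplicative.toAdd.injective (funext fun i => hfix)).symm
      refine ⟨SemidirectProduct.inl w * SemidirectProduct.inr g, ?_⟩
      rw [hcomm.orderOf_mul_eq_mul_orderOf_of_coprime (by rw [hw, hg']; exact (Nat.coprime_primes hp ha).2 hap.symm),
        hw, hg']
    rcases h with ⟨rfl, h⟩ | ⟨rfl, h⟩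
    · exact key s hs hrs.symm h
    · obtain ⟨x, hx⟩ := key r hr hrs h
      exact ⟨x, hx.trans (mul_comm _ _)⟩

end Cfsg.Agent.Lib.PrimeGraph
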